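import Groth.Agent.ShriekCoh7.Local

/-!
# The right adjoint of `Rf_*` keeps bounded below coherent complexes
-/

set_option linter.style.haveILetI false
set_option backward.isDefEq.respectTransparency false
set_option backward.isDefEq.respectTransparency.types false
set_option maxHeartbeats 4000000

universe u

open CategoryTheory CategoryTheory.Limits AlgebraicGeometry

attribute [local instance] HasDerivedCategory.standard

namespace Groth.Agent.ShriekCoh7

open Groth.Agent.KFlatLib Groth.Agent.PerfGen7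

/-- `a(K)` is coherent for `f` proper, `Y` Noetherian and `K` bounded below coherent. -/
theorem isCohD_rightAdjoint {X Y : Scheme.{u}} [IsNoetherian Y] (f : X ⟶ Y) [IsProper f]
    [DCoh.HasRpush f] (hf : DCoh.RpushPreservesQCoh f) {a : DCoh.DQCoh Y ⥤ DCoh.DQCoh X}
    (adj : DCoh.RpushQ f hf ⊣ a) (K : DCoh.DQCoh Y) (b : ℤ) [K.obj.IsGE b] (hK : DCoh.IsCohD K.obj) :
    DCoh.IsCohD (a.obj K).obj := by
  haveI : IsLocallyNoetherian X := LocallyOfFiniteType.isLocallyNoetherian f
  intro d
  refine isCoh_of_local fun x => ?_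
  obtain ⟨_, ⟨W, hW, rfl⟩, hxW, -⟩ :=
    Y.isBasis_affineOpens.exists_subset_of_mem_open (Set.mem_univ (f x)) isOpen_univ
  haveI : IsNoetherianRing Γ(Y, W) := IsLocallyNoetherian.component_noetherian ⟨W, hW⟩
  let i := hW.fromSpec
  let Q := Limits.pullback f i
  let k := Limits.pullback.fst f i
  let q := Limits.pullback.snd f i
  haveI : IsProper q := MorphismProperty.pullback_snd _ _ inferInstance
  have hk : Set.range k.base = f.base ⁻¹' Set.range i.base := IsOpenImmersion.range_pullbackFst i f
  haveI : IsLocallyNoetherian Q := isLocallyNoetherian_of_isOpenImmersion k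
  haveI : CompactSpace Q := QuasiCompact.compactSpace_of_compactSpace q
  haveI : IsNoetherian Q := {}
  haveI := hasRpush_scheme q
  have hq : DCoh.RpushPreservesQCoh q := fun K hK => KFlatLib.isQCohD_rpush q hK
  haveI : (DCoh.RpushQ q hq).IsLeftAdjoint := Groth.Agent.S1766.result _ _ q hq
  let adjq := Adjunction.ofIsLeftAdjoint (DCoh.RpushQ q hq)
  obtain ⟨r⟩ := ShriekIndep7.nonempty_rightAdjoint_restrict f hf adj i k hk q
    Limits.pullback.condition hq adjq
  let K' := (ShriekSupp7.restrictQ i).obj K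
  haveI : K'.obj.IsGE b := (DerivedCategory.isGE_iff _ _).2 fun l hl =>
    (Functor.map_isZero (Scheme.Modules.restrictFunctor i)
      (DerivedCategory.isZero_of_isGE K.obj b l hl)).of_iso (restrictHDIso i K.obj l)
  have hK' : DCoh.IsCohD K'.obj := fun l =>
    isCoh_of_iso (restrictHDIso i K.obj l).symm (isCoh_restrict i (hK l))
  have hc : DCoh.IsCohD ((DCoh.RpushQ q hq).rightAdjoint.obj K').obj := fun l =>
    isCoh_of_local fun z => by
      obtain ⟨U, hU, hzU⟩ : ∃ U : Q.Opens, IsAffineOpen U ∧ z ∈ U := by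
        obtain ⟨_, ⟨U, hU, rfl⟩, hzU, -⟩ :=
          Q.isBasis_affineOpens.exists_subset_of_mem_open (Set.mem_univ z) isOpen_univ
        exact ⟨U, hU, hzU⟩
      exact ⟨_, U.ι, inferInstance, ⟨(⟨z, hzU⟩ : U), rfl⟩,
        isCoh_of_iso (restrictHDIso U.ι _ l) (isCohD_rho_of_affine q hq adjq U hU K' b hK' l)⟩
  refine ⟨Q, k, inferInstance, ?_, ?_⟩
  · rw [hk, hW.range_fromSpec]
    exact hxW
  · exact isCoh_of_iso ((DerivedCategory.homologyFunctor _ d).mapIso (r.app ⟨K, b, inferInstance⟩).symm ≪≫
      restrictHDIso k _ d) (hc d)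

end Groth.Agent.ShriekCoh7
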