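import Groth.Agent.ShriekCoh7.Pn
import Groth.Agent.ShriekIndep7.Indep
import Groth.Agent.ShriekIndep7.Restrict
import Groth.Agent.ChowX.AffImm
import Groth.Agent.S3630
import Groth.Agent.S3633
import Groth.Agent.S3634
import Groth.Agent.SiteBase.ModGroth
import Mathlib.CategoryTheory.Abelian.GrothendieckCategory.EnoughInjectives

/-!
# The right adjoint keeps coherence on affine opens over an affine base
-/

set_option linter.style.haveILetI false
set_option backward.isDefEq.respectTransparency false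
set_option backward.isDefEq.respectTransparency.types false
set_option maxHeartbeats 1000000

universe u

open CategoryTheory CategoryTheory.Limits AlgebraicGeometry

attribute [local instance] HasDerivedCategory.standard

namespace Groth.Agent.ShriekCoh7

open Groth.Agent.KFlatLib Groth.Agent.PerfGen7

/-- `a(K)|_U` is coherent for an affine open `U` over a Noetherian affine base. -/
theorem isCohD_rho_of_affine {A : Type u} [CommRing A] [IsNoetherianRing A] {X : Scheme.{u}}
    (f : X ⟶ Spec (CommRingCat.of A)) [IsProper f] [DCoh.HasRpush f] (hf : DCoh.RpushPreservesQCoh f)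
    {a : DCoh.DQCoh (Spec (CommRingCat.of A)) ⥤ DCoh.DQCoh X} (adj : DCoh.RpushQ f hf ⊣ a)
    (U : X.Opens) (hU : IsAffineOpen U) (K : DCoh.DQCoh (Spec (CommRingCat.of A))) (b : ℤ)
    [K.obj.IsGE b] (hK : DCoh.IsCohD K.obj) :
    DCoh.IsCohD ((rho U.ι).obj (a.obj K).obj) := by
  let Y := Spec (CommRingCat.of A)
  haveI : IsNoetherianRing (CommRingCat.of A) := ‹_›
  haveI : IsAffine (U : Scheme.{u}) := hU
  obtain ⟨n, p, hp, hpr⟩ := ChowX.exists_immersion_affine (U.ι ≫ f)
  let π := CohB1.ProjSpace.toSpec n A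
  let P := CohB1.ProjSpace n A
  let hpb : IsPullback (ProjX.pmap n (ProjX.zto A)) π (CohB1.ProjSpace.toSpec n (ULift.{u} ℤ))
      (specULiftZIsTerminal.from Y) := by
    rw [specULiftZIsTerminal.hom_ext (specULiftZIsTerminal.from Y)
      (Spec.map (CommRingCat.ofHom (ProjX.zto A)))]
    exact ProjX.isPullback_pmap n (ProjX.zto A)
  let e : P ≅ CohB1.ProjSpaceOver n Y := hpb.isoPullback
  have he : e.inv ≫ π = CohB1.ProjSpaceOver.toBase n Y := hpb.isoPullback_inv_snd
  let m : (U : Scheme.{u}) ⟶ P := p ≫ e.inv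
  have hm : m ≫ π = U.ι ≫ f := by rw [Category.assoc, he, hpr]
  haveI : IsProper π := PnCoh.Chow.isProper_toSpec n A
  haveI : IsLocallyNoetherian P := LocallyOfFiniteType.isLocallyNoetherian π
  haveI : CompactSpace P := QuasiCompact.compactSpace_of_compactSpace π
  haveI : IsNoetherian P := {}
  haveI : IsImmersion m := inferInstance
  haveI : QuasiCompact m := inferInstance
  let i := m.imageι
  let q := i ≫ π
  haveI : IsProper q := inferInstance
  haveI : IsLocallyNoetherian m.image := LocallyOfFiniteType.isLocallyNoetherian i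
  haveI : CompactSpace m.image := QuasiCompact.compactSpace_of_compactSpace i
  haveI : IsNoetherian m.image := {}
  haveI := hasRpush_scheme π
  haveI := hasRpush_scheme i
  haveI := hasRpush_scheme q
  have hπ : DCoh.RpushPreservesQCoh π := fun K hK => KFlatLib.isQCohD_rpush π hK
  have hi : DCoh.RpushPreservesQCoh i := fun K hK => KFlatLib.isQCohD_rpush i hK
  have hq : DCoh.RpushPreservesQCoh q := fun K hK => KFlatLib.isQCohD_rpush q hK
  haveI : (DCoh.RpushQ π hπ).IsLeftAdjoint := Groth.Agent.S1766.result _ _ π hπ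
  haveI : (DCoh.RpushQ i hi).IsLeftAdjoint := Groth.Agent.S1766.result _ _ i hi
  let adjπ := Adjunction.ofIsLeftAdjoint (DCoh.RpushQ π hπ)
  let adji := Adjunction.ofIsLeftAdjoint (DCoh.RpushQ i hi)
  let aπ := (DCoh.RpushQ π hπ).rightAdjoint
  let ai := (DCoh.RpushQ i hi).rightAdjoint
  obtain ⟨c⟩ : Nonempty (DCoh.RpushQ i hi ⋙ DCoh.RpushQ π hπ ≅ DCoh.RpushQ q hq) := by
    obtain ⟨c⟩ := nonempty_rpush_comp i π
    exact ⟨NatIso.ofComponents (fun K => ObjectProperty.isoMk _ (c.app K.obj))
      fun g => ObjectProperty.hom_ext _ (c.hom.naturality g.hom)⟩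
  let adjq : DCoh.RpushQ q hq ⊣ aπ ⋙ ai := (adji.comp adjπ).ofNatIsoLeft c
  obtain ⟨θ⟩ := ShriekIndep7.nonempty_shriek_indep f hf adj q hq adjq U.ι m.toImage
    (by rw [← Category.assoc, Scheme.Hom.toImage_imageι, hm])
  obtain ⟨N, hN⟩ := exists_rightAdjoint_bound π hπ aπ adjπ
  haveI : (aπ.obj K).obj.IsGE (b - 1 - N + 1) := (DerivedCategory.isGE_iff _ _).2 fun k hk =>
    hN K (b - 1) (fun l hl => DerivedCategory.isZero_of_isGE K.obj b l (by omega)) k (by omega)
  let K₁ : (Dual3.IsBddBelowQ P).FullSubcategory := ⟨aπ.obj K, ⟨b - 1 - N + 1, inferInstance⟩⟩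
  haveI : Dual3.HasHomO i := Groth.Agent.S3630.result _ _ i
  obtain ⟨eI⟩ := Groth.Agent.S3634.result _ P i hi ai adji
  have h1 : DCoh.IsCohD (aπ.obj K).obj := isCohD_rightAdjoint_Pn n A hπ adjπ K hK
  have h2 := Groth.Agent.S3633.result _ P i ((Dual3.bddToPlus P).obj K₁) h1
  have h3 : DCoh.IsCohD (ai.obj (aπ.obj K)).obj := fun k =>
    isCoh_of_iso ((DerivedCategory.homologyFunctor _ k).mapIso (eI.app K₁).symm) (h2 k)
  let K₀ : (Dual3.IsBddBelowQ Y).FullSubcategory := ⟨K, b, inferInstance⟩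
  haveI : IsLocallyNoetherian (U : Scheme.{u}) := isLocallyNoetherian_of_isOpenImmersion m.toImage
  intro k
  exact isCoh_of_iso ((restrictHDIso m.toImage _ k).symm ≪≫
    (DerivedCategory.homologyFunctor _ k).mapIso (θ.app K₀).symm) (isCoh_restrict m.toImage (h3 k))

end Groth.Agent.ShriekCoh7
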