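import Groth.Agent.PerfGen7.TensorCoh
import Groth.Agent.ShriekTensor7.UnitShift
import Groth.Prelude.Def_Pic

/-!
# Coherence after tensoring with a shifted line bundle
-/

set_option linter.style.haveILetI false
set_option backward.isDefEq.respectTransparency false
set_option backward.isDefEq.respectTransparency.types false

universe u

open CategoryTheory CategoryTheory.Limits AlgebraicGeometry

attribute [local instance] HasDerivedCategory.standard

namespace Groth.Agent.ShriekCoh7

open Groth.Agent.KFlatLib Groth.Agent.PerfGen7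

variable {X : Scheme.{u}}

/-- `K ⊗^L L[-k]` has coherent cohomology when `K` does and `L` is invertible. -/
theorem isCohD_ltensor_single [IsLocallyNoetherian X] {L : X.Modules} (hL : PicF.IsInvertible L) (k : ℤ)
    [DCoh.HasLTensorCx ((HomologicalComplex.single X.Modules (ComplexShape.up ℤ) k).obj L)]
    {K : DCoh.D X} (hK : DCoh.IsCohD K) :
    DCoh.IsCohD ((DCoh.LTensorCx ((HomologicalComplex.single X.Modules (ComplexShape.up ℤ) k).obj L)).obj K) := by
  intro i
  let S := (HomologicalComplex.single X.Modules (ComplexShape.up ℤ) k).obj L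
  obtain ⟨R, hR, ⟨e⟩⟩ := exists_kFlat_rep K
  refine isCoh_of_local fun x => ?_
  obtain ⟨V, hx, ⟨t⟩⟩ := hL x
  let j : (V : Scheme.{u}) ⟶ X := V.ι
  refine ⟨_, j, inferInstance, ⟨⟨x, hx⟩, rfl⟩, ?_⟩
  let c := restrictPullCxIso j
  let C := (DCoh.tensorCx.obj R).obj S
  let eS : (rCx j).obj S ≅ ShriekTensor7.unitS (V : Scheme.{u}) k :=
    (HomologicalComplex.singleMapHomologicalComplex (Scheme.Modules.restrictFunctor j) _ k).app L ≪≫
      (HomologicalComplex.single _ _ k).mapIso t
  let eC : (rCx j).obj C ≅ ((rCx j).obj R)⟦(-k : ℤ)⟧ :=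
    c.app C ≪≫ (pullTensorCxIso j R S).symm ≪≫
      (DCoh.tensorCx.mapIso (c.app R).symm).app _ ≪≫
      (DCoh.tensorCx.obj ((rCx j).obj R)).mapIso ((c.app S).symm ≪≫ eS) ≪≫
      (ShriekTensor7.e1U (V : Scheme.{u}) k).app _
  let eH : (DCoh.HD ((DCoh.LTensorCx S).obj K) i).restrict j ≅
      (Scheme.Modules.restrictFunctor j).obj (R.homology (-k + i)) :=
    (Scheme.Modules.restrictFunctor j).mapIso ((DerivedCategory.homologyFunctor X.Modules i).mapIso
      ((DCoh.LTensorCx S).mapIso e.symm ≪≫ ltensorCxIso S hR) ≪≫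
      (DerivedCategory.homologyFunctorFactors X.Modules i).app C) ≪≫
    ((C.sc i).mapHomologyIso (Scheme.Modules.restrictFunctor j)).symm ≪≫
    (HomologicalComplex.homologyFunctor _ _ i).mapIso eC ≪≫
    ((HomologicalComplex.homologyFunctor (V : Scheme.{u}).Modules (ComplexShape.up ℤ) 0).shiftIso (-k : ℤ) i (-k + i) rfl).app ((rCx j).obj R) ≪≫
    (R.sc (-k + i)).mapHomologyIso (Scheme.Modules.restrictFunctor j)
  refine isCoh_of_iso eH.symm (isCoh_restrict j (isCoh_of_iso ?_ (hK (-k + i))))
  exact ((DerivedCategory.homologyFunctor X.Modules _).mapIso e.symm ≪≫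
    (DerivedCategory.homologyFunctorFactors X.Modules _).app R)

end Groth.Agent.ShriekCoh7
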