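import Groth.Agent.ShriekCoh7.Line
import Groth.Agent.ShriekPn7.Main
import Groth.Agent.DerBC7.LpullFlat
import Groth.Agent.HensSch7.Flat
import Groth.Agent.ProjGen7.FlatBase
import Groth.Agent.ProjX.Chart
import Groth.Agent.PnPic.Twist
import Groth.Agent.ZClosLib.CohDescent
import Groth.Agent.S3658

/-!
# The right adjoint for projective space keeps coherence
-/

set_option linter.style.haveILetI false
set_option backward.isDefEq.respectTransparency false
set_option backward.isDefEq.respectTransparency.types false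
set_option maxHeartbeats 1000000

universe u

open CategoryTheory CategoryTheory.Limits AlgebraicGeometry

attribute [local instance] HasDerivedCategory.standard

namespace Groth.Agent.ShriekCoh7

open Groth.Agent.KFlatLib Groth.Agent.PerfGen7

variable (n : ℕ) (A : Type u) [CommRing A]

theorem flat_toSpec : Flat (CohB1.ProjSpace.toSpec n A) :=
  MorphismProperty.of_isPullback (ProjX.isPullback_pmap n (ProjX.zto A)) (ProjGen7.flat_toSpec_int n)

variable [IsNoetherianRing A]

/-- `π^!` of a coherent bounded below complex on the base is coherent. -/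
theorem isCohD_rightAdjoint_Pn [DCoh.HasRpush (CohB1.ProjSpace.toSpec n A)]
    (hp : DCoh.RpushPreservesQCoh (CohB1.ProjSpace.toSpec n A))
    {a : DCoh.DQCoh (Spec (CommRingCat.of A)) ⥤ DCoh.DQCoh (CohB1.ProjSpace n A)}
    (adj : DCoh.RpushQ (CohB1.ProjSpace.toSpec n A) hp ⊣ a) (K : DCoh.DQCoh (Spec (CommRingCat.of A)))
    (hK : DCoh.IsCohD K.obj) : DCoh.IsCohD (a.obj K).obj := by
  let π := CohB1.ProjSpace.toSpec n A
  let Y := Spec (CommRingCat.of A)
  haveI : IsNoetherianRing (CommRingCat.of A) := ‹_›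
  haveI : IsProper π := PnCoh.Chow.isProper_toSpec n A
  haveI : Flat π := flat_toSpec n A
  haveI : LocallyOfFinitePresentation π := ProjGen7.lfp_of_lft π
  haveI : IsLocallyNoetherian (CohB1.ProjSpace n A) := LocallyOfFiniteType.isLocallyNoetherian π
  haveI := KFlatLib.hasLpull π
  haveI : PreservesFiniteLimits (Scheme.Modules.pullback π) :=
    HensSch7.preservesFiniteLimits_pullMod π.toLRSHom (fun x => Flat.stalkMap π x)
  let O : DCoh.DQCoh Y := ⟨DCoh.inD Y (Coh.structureModule Y),
    ShriekPn7.isQCohD_inD (PnCoh.isQCoh_structureModule Y)⟩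
  obtain ⟨eO⟩ := ShriekPn7.nonempty_rightAdjoint_Pn n A hp adj O ⟨Iso.refl _⟩
  let L := Twist.twistProjSpace n A (-((n : ℤ) + 1))
  let P := CohB1.ProjSpace n A
  let S := (HomologicalComplex.single P.Modules (ComplexShape.up ℤ) (-(n : ℤ))).obj L
  haveI := KFlatLib.hasLTensorCx S
  let eS : DCoh.toD P S ≅ (a.obj O).obj :=
    ((DerivedCategory.singleFunctorIsoCompQ P.Modules (-(n : ℤ))).app L).symm ≪≫
      (((DerivedCategory.singleFunctors P.Modules).shiftIso (n : ℤ) (-(n : ℤ)) 0 (by omega)).app L).symm ≪≫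
      eO.symm
  obtain ⟨e⟩ := Groth.Agent.S3658.result P Y π hp a adj O ⟨Iso.refl _⟩ S ⟨eS⟩
  have hL : DCoh.IsCohD ((DCoh.Lpull π).obj K.obj) := fun i =>
    isCoh_of_iso (DerBC7.nonempty_hd_lpull_iso π K.obj i).some.symm (ZClosLib.isCoh_pullback π (hK i))
  have h := isCohD_ltensor_single (PnPic.isInvertible_twistProjSpace n A (-((n : ℤ) + 1))) (-(n : ℤ)) hL
  exact fun i => isCoh_of_iso ((DerivedCategory.homologyFunctor P.Modules i).mapIso (e.app K).symm) (h i)

end Groth.Agent.ShriekCoh7
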